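import Cfsg.Agent.Lib.Core.PPrimeCore

/-!
# Local balance: `p'`-cores of centralizers of automorphisms
-/

set_option autoImplicit false

namespace Cfsg.Lib.Bal

open Subgroup
open scoped commutatorElement

variable {G L : Type*} [Group G] [Group L] {p : ℕ} {I A : Subgroup G} {x : G}

/-- `N` is a `p'`-subgroup of `C(x)` normalized by `C_I(x)`. -/
structure Adm (p : ℕ) (I : Subgroup G) (x : G) (N : Subgroup G) : Prop where
  cop : (Nat.card N).Coprime p
  le : N ≤ centralizer {x}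
  nrm : ∀ g ∈ I ⊓ centralizer {x}, ∀ n ∈ N, g * n * g⁻¹ ∈ N

/-- `C_I(x)` normalizes no nontrivial `p'`-subgroup of `C(x)`. -/
def Good (p : ℕ) (I : Subgroup G) (x : G) : Prop := ∀ N, Adm p I x N → N = ⊥

theorem Good.pPrimeCore_eq_bot [Finite G] (h : Good p I x) (hA : I ≤ A) :
    pPrimeCore p ↥(A ⊓ centralizer {x}) = ⊥ :=
  (map_eq_bot_iff_of_injective _ (subtype_injective _)).1 (h _ ⟨Core.coprime_map _
    (Core.pPrimeCore_coprime p _), (map_subtype_le _).trans inf_le_right, by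
      rintro g hg _ ⟨n, hn, rfl⟩
      exact ⟨_, Normal.conj_mem inferInstance n hn ⟨g, hA hg.1, hg.2⟩, rfl⟩⟩)

theorem pPrimeCore_ne_bot [hI : I.Normal] (hA : I ≤ A) (h : I ⊓ centralizer {x} ≠ ⊥)
    (hc : (Nat.card ↥(I ⊓ centralizer {x})).Coprime p) :
    pPrimeCore p ↥(A ⊓ centralizer {x}) ≠ ⊥ := fun e => h (by
  have h1 := Core.pPrimeCore_eq_bot_iff.1 e ((I ⊓ centralizer {x}).subgroupOf _)
    ⟨fun n hn g => ⟨hI.conj_mem _ hn.1 _, (centralizer {x}).mul_mem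
      ((centralizer {x}).mul_mem g.2.2 hn.2) ((centralizer {x}).inv_mem g.2.2)⟩⟩
    (Core.coprime_subgroupOf _ hc)
  exact (subgroupOf_eq_bot.1 h1).eq_bot_of_le (inf_le_inf_right _ hA))

theorem Adm.inf [hI : I.Normal] {N : Subgroup G} (h : Adm p I x N) : Adm p I x (N ⊓ I) :=
  ⟨Core.coprime_of_le inf_le_left h.cop, inf_le_left.trans h.le,
    fun g hg n hn => ⟨h.nrm g hg n hn.1, hI.conj_mem n hn.2 g⟩⟩

/-- The basic criterion: a quasisimple subgroup `f L` of `C_I(x)` of order divisible by `p`. -/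
theorem good_of [Finite G] [hI : I.Normal] [hp : Fact p.Prime] (f : L →* G)
    (hL : ∀ R : Subgroup L, R.Normal → R ≤ f.ker ∨ R = ⊤) (hd : p ∣ Nat.card f.range)
    (hf : ∀ l, f l ∈ I ⊓ centralizer {x})
    (h1 : ∀ y ∈ I ⊓ centralizer {x}, (orderOf y).Coprime p → ∀ l, y * f l * y⁻¹ ∈ f.range)
    (h2 : ∀ N, Adm p I x N → (∀ n ∈ N, ∀ l, Commute n (f l)) → N = ⊥) : Good p I x := fun N hN => by
  have hM := hN.inf
  have h3 : ∀ {M}, Adm p I x M → ∀ n ∈ M, ∀ l, n * f l * n⁻¹ * (f l)⁻¹ ∈ M := fun hM n hn l => by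
    simpa [mul_assoc] using mul_mem hn (hM.nrm _ (hf l) _ (inv_mem hn))
  have h4 : (N ⊓ I).comap f ≤ f.ker := (hL _ ⟨fun n hn l => by
    simpa using hM.nrm _ (hf l) _ hn⟩).resolve_right fun e => hp.out.one_lt.ne' (Nat.eq_one_of_dvd_coprimes
      hM.cop.symm dvd_rfl (hd.trans (card_dvd_of_le (by rintro _ ⟨l, rfl⟩; exact e.ge (mem_top l)))))
  have h5 := h2 _ hM fun n hn l => by
    obtain ⟨k, hk⟩ := mul_mem (h1 n ⟨hn.2, hN.le hn.1⟩ (hM.cop.coprime_dvd_left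
      (orderOf_dvd_natCard _ hn)) l) (inv_mem (⟨l, rfl⟩ : f l ∈ f.range))
    exact commutatorElement_eq_one_iff_commute.1 (hk.symm.trans (h4 (hk ▸ h3 hM n hn l :)))
  refine h2 N hN fun n hn l => commutatorElement_eq_one_iff_commute.1 (h5.le ⟨h3 hN n hn l, ?_⟩)
  exact I.mul_mem (hI.conj_mem _ (hf l).1 n) (I.inv_mem (hf l).1)

theorem eq_bot_of_pow {N : Subgroup G} (h : (Nat.card N).Coprime p) {k : ℕ}
    (h1 : ∀ n ∈ N, n ^ p ^ k = 1) : N = ⊥ := (eq_bot_iff_forall _).2 fun n hn =>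
  orderOf_eq_one_iff.1 (Nat.eq_one_of_dvd_coprimes (h.pow_right k) (orderOf_dvd_natCard _ hn)
    (orderOf_dvd_of_pow_eq_one (h1 n hn)))

/-- Fixed points of an automorphism of a centreless group. -/
theorem card_eqLocus (h : center G = ⊥) (x : MulAut G) :
    Nat.card (MonoidHom.eqLocus x.toMonoidHom (MonoidHom.id G)) =
      Nat.card ↥((MulAut.conj : G →* MulAut G).range ⊓ centralizer {x}) := by
  have hi : Function.Injective (MulAut.conj : G →* MulAut G) := by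
    rw [injective_iff_map_eq_one]
    exact fun g hg => h.le (mem_center_iff.2 fun a =>
      (mul_inv_eq_iff_eq_mul.1 (DFunLike.congr_fun hg a)).symm)
  rw [← card_map_of_injective hi]
  congr 3
  ext y
  have h1 : ∀ g, x * MulAut.conj g * x⁻¹ = MulAut.conj (x g) := fun g => by ext; simp
  rw [mem_inf, mem_centralizer_singleton_iff]
  refine ⟨?_, fun ⟨⟨g, hg⟩, e⟩ => ⟨g, hi ?_, hg⟩⟩
  · rintro ⟨g, hg, rfl⟩
    exact ⟨⟨g, rfl⟩, (mul_inv_eq_iff_eq_mul.1 ((h1 g).trans (congrArg _ hg))).symm⟩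
  · exact (h1 g).symm.trans (by rw [hg, ← e, mul_inv_cancel_right, ← hg]; rfl)

/-- The form of the local balance criteria. -/
theorem core_ne_bot_iff [Finite G] [Fact p.Prime] (h : center G = ⊥) {A : Subgroup (MulAut G)}
    (hA : ∀ k, MulAut.conj k ∈ A) {x : MulAut G} {P : Prop}
    (h1 : (MulAut.conj : G →* MulAut G).range ⊓ centralizer {x} ≠ ⊥)
    (h2 : p ∣ Nat.card ↥((MulAut.conj : G →* MulAut G).range ⊓ centralizer {x}) →
      Good p (MulAut.conj : G →* MulAut G).range x)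
    (h3 : ¬ p ∣ Nat.card ↥((MulAut.conj : G →* MulAut G).range ⊓ centralizer {x}) → P) :
    pPrimeCore p ↥(A ⊓ centralizer {x}) ≠ ⊥ ↔
      P ∧ p.Coprime (Nat.card (MonoidHom.eqLocus x.toMonoidHom (MonoidHom.id G))) := by
  have hA' : (MulAut.conj : G →* MulAut G).range ≤ A := by rintro _ ⟨k, rfl⟩; exact hA k
  haveI : (MulAut.conj : G →* MulAut G).range.Normal :=
    ⟨by rintro _ ⟨k, rfl⟩ y; exact ⟨y k, by ext; simp⟩⟩
  rw [card_eqLocus h, Nat.coprime_comm, Core.coprime_iff_not_dvd]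
  exact ⟨fun e => (fun h => ⟨h3 h, h⟩) fun hd => e ((h2 hd).pPrimeCore_eq_bot hA'),
    fun e => pPrimeCore_ne_bot hA' h1 (Core.coprime_iff_not_dvd.2 e.2)⟩

end Cfsg.Lib.Bal
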