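import Cfsg.Agent.Lib.Bal.Basic

/-!
# Local balance: criteria using families of subgroups without `p'`-core
-/

set_option autoImplicit false

namespace Cfsg.Lib.Bal

open Subgroup
open scoped commutatorElement

variable {G L : Type*} [Group G] [Group L] {p : ℕ} {I : Subgroup G} {x : G}

theorem Adm.commute {N H : Subgroup G} (hN : Adm p I x N) (hNI : N ≤ I) (hH : pPrimeCore p H = ⊥)
    (hf : H ≤ I ⊓ centralizer {x})
    (h1 : ∀ y ∈ I ⊓ centralizer {x}, (orderOf y).Coprime p → ∀ h ∈ H, y * h * y⁻¹ ∈ H) :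
    ∀ n ∈ N, ∀ h ∈ H, Commute n h := fun n hn h hh => by
  have h2 := Core.pPrimeCore_eq_bot_iff.1 hH (N.subgroupOf H) ⟨fun n hn g => hN.nrm _ (hf g.2) _ hn⟩
    (Core.coprime_subgroupOf _ hN.cop)
  refine commutatorElement_eq_one_iff_commute.1 ((subgroupOf_eq_bot.1 h2).le_bot ⟨?_, H.mul_mem
    (h1 n ⟨hNI hn, hN.le hn⟩ (hN.cop.coprime_dvd_left (orderOf_dvd_natCard _ hn)) h hh) (H.inv_mem hh)⟩)
  simpa [commutatorElement_def, mul_assoc] using mul_mem hn (hN.nrm _ (hf hh) _ (inv_mem hn))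

theorem good_of_family [hI : I.Normal] {ι : Type*} (H : ι → Subgroup G)
    (hH : ∀ i, pPrimeCore p (H i) = ⊥) (hf : ∀ i, H i ≤ I ⊓ centralizer {x})
    (h1 : ∀ i, ∀ y ∈ I ⊓ centralizer {x}, (orderOf y).Coprime p → ∀ h ∈ H i, y * h * y⁻¹ ∈ H i)
    (h2 : ∀ n ∈ centralizer {x}, (orderOf n).Coprime p → (∀ i, ∀ h ∈ H i, Commute n h) → n = 1) :
    Good p I x := fun N hN => by
  have h3 : ∀ {M}, Adm p I x M → (∀ n ∈ M, ∀ i, ∀ h ∈ H i, Commute n h) → M = ⊥ := fun hM h =>
    (eq_bot_iff_forall _).2 fun n hn =>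
      h2 n (hM.le hn) (hM.cop.coprime_dvd_left (orderOf_dvd_natCard _ hn)) (h n hn)
  have h4 := h3 hN.inf fun n hn i => hN.inf.commute inf_le_right (hH i) (hf i) (h1 i) n hn
  refine h3 hN fun n hn i h hh => commutatorElement_eq_one_iff_commute.1 (h4.le ⟨?_,
    I.mul_mem (hI.conj_mem _ (hf i hh).1 n) (I.inv_mem (hf i hh).1)⟩)
  simpa [commutatorElement_def, mul_assoc] using mul_mem hn (hN.nrm _ (hf i hh) _ (inv_mem hn))

theorem good_of_subgroup [I.Normal] (H : Subgroup G) (hH : pPrimeCore p H = ⊥)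
    (hf : H ≤ I ⊓ centralizer {x})
    (h1 : ∀ y ∈ I ⊓ centralizer {x}, (orderOf y).Coprime p → ∀ h ∈ H, y * h * y⁻¹ ∈ H)
    (h2 : ∀ n ∈ centralizer {x}, (orderOf n).Coprime p → (∀ h ∈ H, Commute n h) → n = 1) :
    Good p I x :=
  good_of_family (fun _ : Unit => H) (fun _ => hH) (fun _ => hf) (fun _ => h1)
    fun n hn hc h => h2 n hn hc (h ())

theorem conj_mem_centralizer_conj {a y : G} :
    a * y * a⁻¹ ∈ centralizer {a * x * a⁻¹} ↔ y ∈ centralizer {x} := by
  rw [mem_centralizer_singleton_iff, mem_centralizer_singleton_iff, conj_mul, conj_mul, mul_left_inj,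
    mul_right_inj]

theorem map_conj_inf_centralizer [hI : I.Normal] (a : G) :
    (I ⊓ centralizer {x}).map (MulAut.conj a : G →* G) = I ⊓ centralizer {a * x * a⁻¹} := by
  ext y
  obtain ⟨y, rfl⟩ := (MulAut.conj a).surjective y
  exact (mem_map_iff_mem (MulAut.conj a).injective).trans
    (and_congr ⟨(hI.conj_mem _ · a), fun h => by simpa [mul_assoc] using hI.conj_mem _ h a⁻¹⟩
      conj_mem_centralizer_conj.symm)

theorem card_inf_centralizer_conj [I.Normal] (a : G) :
    Nat.card ↥(I ⊓ centralizer {a * x * a⁻¹}) = Nat.card ↥(I ⊓ centralizer {x}) := by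
  rw [← map_conj_inf_centralizer, card_map_of_injective (MulAut.conj a).injective]

theorem Good.conj [I.Normal] (h : Good p I x) (a : G) : Good p I (a * x * a⁻¹) := fun N hN =>
  (map_eq_bot_iff_of_injective (f := (MulAut.conj a⁻¹ : G →* G)) _ (MulAut.conj a⁻¹).injective).1 <| by
    refine h _ ⟨Core.coprime_map _ hN.cop, ?_, ?_⟩
    · rintro _ ⟨n, hn, rfl⟩
      exact (conj_mem_centralizer_conj (a := a)).1 (by simpa [mul_assoc] using hN.le hn)
    · rintro g hg _ ⟨n, hn, rfl⟩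
      exact ⟨_, hN.nrm (a * g * a⁻¹) ((map_conj_inf_centralizer a).le (mem_map_of_mem _ hg)) n hn,
        by simp [mul_assoc]⟩

/-- The form of the local balance criteria, up to conjugacy. -/
theorem core_ne_bot_iff_conj [Finite G] [Fact p.Prime] (h : center G = ⊥) {A : Subgroup (MulAut G)}
    (hA : ∀ k, MulAut.conj k ∈ A) {x : MulAut G} (a : MulAut G) {P : Prop}
    (h1 : (MulAut.conj : G →* MulAut G).range ⊓ centralizer {x} ≠ ⊥)
    (h2 : p ∣ Nat.card ↥((MulAut.conj : G →* MulAut G).range ⊓ centralizer {x}) →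
      Good p (MulAut.conj : G →* MulAut G).range x)
    (h3 : ¬ p ∣ Nat.card ↥((MulAut.conj : G →* MulAut G).range ⊓ centralizer {x}) → P) :
    pPrimeCore p ↥(A ⊓ centralizer {a * x * a⁻¹}) ≠ ⊥ ↔ P ∧ p.Coprime
      (Nat.card (MonoidHom.eqLocus (a * x * a⁻¹).toMonoidHom (MonoidHom.id G))) := by
  haveI : (MulAut.conj : G →* MulAut G).range.Normal :=
    ⟨by rintro _ ⟨k, rfl⟩ y; exact ⟨y k, by ext; simp⟩⟩
  refine core_ne_bot_iff h hA (fun e => h1 ?_) (fun e => (h2 ?_).conj a) fun e => h3 ?_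
  · rwa [← card_eq_one, card_inf_centralizer_conj, card_eq_one] at e
  all_goals rwa [card_inf_centralizer_conj] at e

theorem pPrimeCore_range_eq_bot (f : L →* G) (hf : f.ker = center L)
    (h : pPrimeCore p (L ⧸ center L) = ⊥) : pPrimeCore p f.range = ⊥ :=
  (Core.pPrimeCore_eq_bot_congr ((QuotientGroup.quotientMulEquivOfEq hf).symm.trans
    (QuotientGroup.quotientKerEquivRange f))).1 h

theorem card_range_eq (f : L →* G) (hf : f.ker = center L) :
    Nat.card f.range = Nat.card (L ⧸ center L) := by rw [← index_ker, hf]; rfl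

theorem pPrimeCore_eq_bot_of_simple [IsSimpleGroup G] [hp : Fact p.Prime] (h : p ∣ Nat.card G) :
    pPrimeCore p G = ⊥ := Core.pPrimeCore_eq_bot_iff.2 fun N hN hc =>
  hN.eq_bot_or_eq_top.resolve_right fun e =>
    Core.coprime_iff_not_dvd.1 hc (by rwa [e, card_top])

theorem pPrimeCore_prod (h : pPrimeCore p G = ⊥) (h' : pPrimeCore p L = ⊥) :
    pPrimeCore p (G × L) = ⊥ := Core.pPrimeCore_eq_bot_iff.2 fun N hN hc =>
  (eq_bot_iff_forall _).2 fun n hn => Prod.ext
    ((Core.pPrimeCore_eq_bot_iff.1 h _ (hN.map (MonoidHom.fst G L) Prod.fst_surjective)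
      (Core.coprime_map _ hc)).le (mem_map_of_mem _ hn))
    ((Core.pPrimeCore_eq_bot_iff.1 h' _ (hN.map (MonoidHom.snd G L) Prod.snd_surjective)
      (Core.coprime_map _ hc)).le (mem_map_of_mem _ hn))

/-- A prime dividing the order of a perfect group divides the order of its central quotient. -/
theorem dvd_card_quotient_center [Finite G] [hp : Fact p.Prime] (h : commutator G = ⊤)
    (hd : p ∣ Nat.card G) : p ∣ Nat.card (G ⧸ center G) := by
  rw [card_eq_card_quotient_mul_card_subgroup (center G)] at hd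
  refine (hp.out.dvd_mul.1 hd).elim id fun hd => ?_
  obtain ⟨z, hz⟩ := exists_prime_orderOf_dvd_card' p hd
  letI : CommGroup (center G) := { toGroup := inferInstance, mul_comm := mul_comm' }
  have := (h.ge.trans (Abelianization.commutator_subset_ker (MonoidHom.transferCenterPow G)))
    (mem_top z.1)
  rw [← hz, orderOf_dvd_iff_pow_eq_one]
  exact Subtype.ext (congrArg Subtype.val this)

/-- A group of order `p ^ a * r` generated by elements of order `r`. -/
theorem pPrimeCore_eq_bot_of_card [Finite G] [hp : Fact p.Prime] {r a : ℕ} [hr : Fact r.Prime]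
    (hpr : p ≠ r) (h : Nat.card G = p ^ (a + 1) * r) (hG : closure {g : G | g ^ r = 1} = ⊤) :
    pPrimeCore p G = ⊥ := Core.pPrimeCore_eq_bot_iff.2 fun N hN hc => by
  rcases (Nat.dvd_prime hr.out).1 ((hc.pow_right _).dvd_of_dvd_mul_left
    (h ▸ card_subgroup_dvd_card N)) with h1 | h1
  · exact card_eq_one.1 h1
  have h2 : N.index = p ^ (a + 1) := Nat.eq_of_mul_eq_mul_right hr.out.pos
    (h1 ▸ N.index_mul_card.trans (h1 ▸ h))
  have h3 : N = ⊤ := top_le_iff.1 (hG ▸ (closure_le _).2 fun g hg => (QuotientGroup.eq_one_iff g).1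
    (orderOf_eq_one_iff.1 (Nat.eq_one_of_dvd_coprimes
      (((Nat.coprime_primes hp.out hr.out).2 hpr).pow_left (a + 1)) (h2 ▸ orderOf_dvd_natCard _)
      (orderOf_dvd_of_pow_eq_one (by rw [← QuotientGroup.mk_pow, hg, QuotientGroup.mk_one])))))
  rw [h3, index_top] at h2
  exact absurd h2 (Nat.one_lt_pow a.succ_ne_zero hp.out.one_lt).ne

end Cfsg.Lib.Bal
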