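import Cfsg.Agent.Lib.Bal.Two
import Cfsg.Agent.Lib.Linear.GraphInv
import Cfsg.Agent.Lib.Linear.GraphField
import Cfsg.Agent.Lib.Unitary.Lang
import Cfsg.Agent.Lib.Symp.Descent

/-!
# Local balance for the outer automorphisms of `PSL`
-/

set_option autoImplicit false

namespace Cfsg.Lib.Bal

open Subgroup Cfsg.Lib.Linear Matrix Module Cfsg.Lib.Orth Cfsg.Lib.Orth.Gam
open Matrix.SpecialLinearGroup (toGL transvection transvection_coe)
open scoped MatrixGroups

variable {ι : Type} [Fintype ι] [DecidableEq ι] {F : Type*} [Field F] [Finite F] {r p : ℕ}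
  [Fact r.Prime] [CharP F r] [hp : Fact p.Prime]

omit [Finite F] in
theorem toGL_mem_center_iff {s : SpecialLinearGroup ι F} :
    toGL s ∈ center (GL ι F) ↔ s ∈ center (SpecialLinearGroup ι F) :=
  ⟨fun h => mem_center_iff.2 fun t => SpecialLinearGroup.toGL_injective (by
    simpa using mem_center_iff.1 h (toGL t)), fun h => ker_innDiag.le (by
      rw [MonoidHom.mem_ker, innDiag_toGL, (QuotientGroup.eq_one_iff s).2 h, map_one])⟩

omit [Finite F] in
theorem innDiag_mem_inn_of_det {g : GL ι F} (h : GeneralLinearGroup.det g = 1) :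
    innDiag g ∈ (MulAut.conj : ProjectiveSpecialLinearGroup ι F →* _).range :=
  innDiag_mem_inn_iff.2 ⟨1, by rw [h, one_pow]⟩

omit [Finite F] in
theorem semilinear_conj_grAut {M g : GL ι F} {τ : F ≃+* F}
    (h : innDiag g * fieldAut τ ∈ centralizer {grAut M}) :
    ∃ c : Fˣ, ∀ u v, frm M (g.1 *ᵥ (τ ∘ u)) (g.1 *ᵥ (τ ∘ v)) = c * τ (frm M u v) := by
  have h1 : fieldAut τ * grAut M = grAut (fieldGL τ M) * fieldAut τ := by
    rw [grAut, grAut, ← mul_assoc, fieldAut_mul_innDiag, mul_assoc,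
      (commute_fieldAut_graphAut τ).eq, map_inv, mul_assoc]
  have h2 := mem_centralizer_singleton_iff.1 h
  rw [mul_assoc, h1, ← mul_assoc, ← mul_assoc, mul_left_inj, ← mul_inv_eq_iff_eq_mul] at h2
  obtain ⟨c, hc⟩ := conj_grAut_eq_iff.1 h2
  refine ⟨c, fun u v => (hc _ _).trans ?_⟩
  rw [toBilin'_apply', toBilin'_apply', fieldGL_mulVec]
  simp [dotProduct]

variable (hZ : center (ProjectiveSpecialLinearGroup ι F) = ⊥)
  {A : Subgroup (MulAut (ProjectiveSpecialLinearGroup ι F))} (hA : ∀ k, MulAut.conj k ∈ A)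
include hZ hA

theorem core_iff_field_PSL [Nontrivial ι] (hpr : p ≠ r) {σ : F ≃+* F} (ho : orderOf σ = p)
    (hd : ∀ β : MulAut (ProjectiveSpecialLinearGroup ι F), ∃ g τ, β = innDiag g * fieldAut τ ∨
      (3 ≤ Fintype.card ι ∧ β = innDiag g * fieldAut τ * graphAut)) (a) {P : Prop} (hP : P) :
    pPrimeCore p ↥(A ⊓ centralizer {a * fieldAut σ * a⁻¹}) ≠ ⊥ ↔ P ∧ p.Coprime (Nat.card
      (MonoidHom.eqLocus (a * fieldAut σ * a⁻¹).toMonoidHom (MonoidHom.id _))) := by
  have tw := isTwist_fieldAut (ι := ι) σ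
  rw [ho] at tw
  have hφ : ∀ x, σ x = x ↔ x ∈ (fixField σ).subtype.range := fun x => by simp
  letI := Fintype.ofFinite (fixField σ)
  obtain ⟨e⟩ := tw.nonempty_centralizer_equiv _ (range_map_GL hφ) (center _) fun l => by
    rw [← tw.ker, ker_innDiag, map_GL_mem_center_iff]
  obtain ⟨i, j, hij⟩ := exists_pair_ne ι
  have ht : ∀ {i j : ι} (h : i ≠ j) a, (GeneralLinearGroup.map (fixField σ).subtype).comp toGL
      (transvection h a) = toGL (transvection h (a : F)) := fun h a => Units.ext (by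
    ext k l; simp [transvection_coe, one_apply, single_apply, apply_ite ((↑) : fixField σ → F)])
  have ht' : ∀ {i j : ι} (h : i ≠ j) (a : F), toGL (transvection h a) ^ r = 1 := fun h a => by
    rw [← map_pow, pow_eq_one_of_isTvNil (isTvNil_transvection h a), map_one]
  refine core_ne_bot_iff_twist (r := r) hZ hA tw inn_le_range_innDiag
    ((GeneralLinearGroup.map (fixField σ).subtype).comp toGL) (fun l => (range_map_GL hφ).le ⟨_, rfl⟩)
    (fun l => innDiag_mem_inn_of_det (Units.ext (((fixField σ).subtype.map_det l.1).symm.trans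
      (by simp)))) (fun k hk l => ?_)
    (Subgroup.ext fun l => ?_) (by rw [Nat.card_congr e.toEquiv]; exact card_PGL_eq_card_SL.dvd)
    ((Nat.coprime_primes hp.out Fact.out).2 hpr) closure_pow_SL (fun N _ => normal_SL_le_center_or N)
    (fun h => ?_) (fun n hn => ?_) a hP
  · obtain ⟨k, rfl⟩ := (range_map_GL hφ).ge hk
    exact ⟨conjSL k l, by simp [toGL_conjSL]⟩
  · rw [MonoidHom.mem_ker, MonoidHom.comp_apply, ← MonoidHom.mem_ker, ker_innDiag,
      MonoidHom.comp_apply, map_GL_mem_center_iff, toGL_mem_center_iff]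
  · simpa [transvection_coe, hij, hij.symm, mul_add, add_mul] using (Matrix.SpecialLinearGroup.ext_iff _ _).1
      (mem_center_iff.1 (h.ge (mem_top (transvection hij 1))) (transvection hij.symm 1)) i i
  obtain ⟨g, τ, rfl | ⟨h3, rfl⟩⟩ := hd n
  · have h1 : ∀ i j, i ≠ j → ∀ a : fixField σ, g.1 * single i j (τ a) = single i j (a : F) * g.1 :=
      fun i j h a => by
      have := congrArg Units.val (eq_of_commute (ht' h a) (ht h a ▸ hn (transvection h a)))
      rw [← toGL_fieldSL, fieldSL_transvection] at this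
      simpa [transvection_coe, mul_add, add_mul] using this
    have h2 := mem_center_GL_of_commute_single fun i j h => by simpa using h1 i j h 1
    rw [ker_innDiag.ge h2, one_mul, ← map_pow, ← ho, pow_orderOf_eq_one_of_fix fun x hx => ?_,
      map_one]
    have h3 := congrArg Units.val (mem_center_iff.1 h2 (toGL (transvection hij x)))
    rw [Units.val_mul, Units.val_mul, SpecialLinearGroup.coe_GL_coe_matrix, transvection_coe, mul_add,
      add_mul, mul_one, one_mul, add_right_inj, ← h1 i j hij ⟨x, hx⟩, Units.mul_right_inj] at h3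
    simpa using congrFun (congrFun h3 i) j
  have h1 : ∀ i j, i ≠ j → g.1 * single j i (-1) = single i j 1 * g.1 := fun i j h => by
    have := congrArg Units.val (eq_of_commute_graph (ht' h _) (ht h 1 ▸ hn (transvection h 1)))
    rw [← toGL_graphSL, graphSL_transvection, ← toGL_fieldSL, fieldSL_transvection] at this
    simpa [transvection_coe, mul_add, add_mul] using this
  obtain ⟨k, hk1, hk2⟩ := exists_third h3 i j
  have h2 : single i j (1 : F) * single j k 1 * g.1 = 0 := by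
    rw [mul_assoc, ← h1 j k hk2.symm, ← mul_assoc, ← h1 i j hij, mul_assoc,
      single_mul_single_of_ne _ _ _ _ hk1.symm, mul_zero]
  rw [Units.mul_left_eq_zero, single_mul_single_same] at h2
  simpa using congrFun (congrFun h2 i) k

theorem core_iff_alt_PSL (h2 : (2 : F) ≠ 0) (h3 : 3 ≤ Fintype.card ι) {M : GL ι F}
    (hM : (frm M).IsAlt) (a) (P : Prop) :
    pPrimeCore 2 ↥(A ⊓ centralizer {a * grAut M * a⁻¹}) ≠ ⊥ ↔ P ∧ (2 : ℕ).Coprime (Nat.card
      (MonoidHom.eqLocus (a * grAut M * a⁻¹).toMonoidHom (MonoidHom.id _))) := by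
  obtain ⟨r, hr⟩ := CharP.exists F
  haveI : Fact r.Prime := ⟨CharP.char_is_prime F r⟩
  haveI : Nontrivial ι := Fintype.one_lt_card_iff_nontrivial.1 (by omega)
  let j : Symp.isom (frm M) →* GL ι F :=
    ((Unitary.glEquiv ι F).symm : _ →* _).comp (Subgroup.subtype _)
  have hj : ∀ l v, (j l).1 *ᵥ v = l.1 v := fun l => Unitary.glEquiv_symm_mulVec l.1
  have ht : ∀ v c, Symp.tv hM v c ^ r = 1 := fun v c => by
    have : ∀ k : ℕ, Symp.tv hM v c ^ k = Symp.tv hM v (k * c) := fun k => by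
      induction k with
      | zero => simp
      | succ k ih => rw [pow_succ, ih, Symp.tv_mul]; congr 1; push_cast; ring
    simp [this]
  have hG : closure {g : Symp.isom (frm M) | g ^ r = 1} = ⊤ :=
    Symp.eq_top_of_tv_mem hM (nd_frm M) _ fun v c => subset_closure (ht v c)
  obtain ⟨v, hv⟩ := exists_ne (0 : ι → F)
  haveI : Finite (Symp.isom (frm M)) :=
    .of_injective j ((Unitary.glEquiv ι F).symm.injective.comp Subtype.val_injective)
  refine core_iff_of_hom hZ hA (innDiag.comp j) (Subgroup.ext fun l => ?_)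
    (fun h => one_ne_zero ((Symp.tv_mem_center_iff hM (nd_frm M) hv 1).1 (h.ge (mem_top _))))
    (fun l => ⟨innDiag_mem_inn_of_det (Units.ext (eq_one_of_pow_char_eq_one (p := r) (congrArg
      Units.val (map_eq_one_of_gen hG (GeneralLinearGroup.det.comp j) l)))),
      (comap_centralizer_grAut M).ge ⟨1, fun u v => by simp only [hj]; simpa using l.2 u v⟩⟩)
    (pPrimeCore_quotient_center ((Nat.coprime_primes Nat.prime_two Fact.out).2 fun e =>
      h2 (by subst e; exact CharP.cast_eq_zero F 2)) hG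
      (fun N _ => Symp.normal_isom_le_center_or hM (nd_frm M) N) ?_) (fun y hy l => ?_)
    (fun n hn hc h => ?_) a P
  · rw [MonoidHom.mem_ker, MonoidHom.comp_apply, ← MonoidHom.mem_ker, ker_innDiag,
      ← Symp.scalars_eq_center, mem_scalars]
    refine ⟨fun ⟨c, hc⟩ => Symp.mem_center_of_scalar _ c fun v => hj l v ▸ hc v, fun h => ?_⟩
    rcases (Symp.mem_center_iff hM (nd_frm M) l).1 h with rfl | rfl
    exacts [⟨1, by simp⟩, ⟨-1, by simp [hj]⟩]
  · exact (orderOf_eq_prime (p := 2) (x := Symp.negOne (frm M)) (Subtype.ext (by ext; simp [pow_two]))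
      (mt Symp.negOne_eq_one_iff.1 h2)) ▸ orderOf_dvd_natCard _
  · obtain ⟨g, rfl⟩ := inn_le_range_innDiag hy.1
    obtain ⟨c, hc⟩ := (comap_centralizer_grAut M).le hy.2
    refine ⟨⟨Unitary.glEquiv ι F (g * j l * g⁻¹), fun u v => ?_⟩, by simp [j]⟩
    obtain ⟨u, rfl⟩ := (Unitary.glEquiv ι F g).surjective u
    obtain ⟨v, rfl⟩ := (Unitary.glEquiv ι F g).surjective v
    simp only [Unitary.glEquiv_apply, mulVec_mulVec, ← Units.val_mul, inv_mul_cancel_right]
    simp only [Units.val_mul, ← mulVec_mulVec, hc, hj]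
    rw [l.2]
  obtain ⟨g, τ, rfl⟩ := exists_of_odd h3 hc
  obtain ⟨⟨u, rfl⟩, h4⟩ := scalar_of_fix_rat (φ := RingHom.id F) (σ := (τ : F →+* F)) (g := g)
    fun v hv => by
      obtain ⟨x, hx⟩ := Symp.exists_bilin_eq_one (nd_frm M) hv
      have := congrArg (fun t : GL ι F => t.1 *ᵥ (τ ∘ x)) (eq_of_commute (r := r)
        (by rw [← map_pow, ht, map_one]) (h (Symp.tv hM v 1)))
      simp only [Units.val_mul, ← mulVec_mulVec, fieldGL_mulVec, hj, Symp.tv_apply, hx] at this
      rw [show τ ∘ (x + ((1 : F) * 1) • v) = τ ∘ x + τ ∘ v by ext; simp, mulVec_add,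
        add_right_inj] at this
      exact ⟨_, this⟩
  rw [innDiag_scalar, show τ = 1 from RingEquiv.ext h4, map_one, one_mul]

theorem core_iff_symm_PSL (h2 : (2 : F) ≠ 0) (h3 : 3 ≤ Fintype.card ι) {M : GL ι F}
    (hM : (frm M).IsSymm) (a) (P : Prop) :
    pPrimeCore 2 ↥(A ⊓ centralizer {a * grAut M * a⁻¹}) ≠ ⊥ ↔ P ∧ (2 : ℕ).Coprime (Nat.card
      (MonoidHom.eqLocus (a * grAut M * a⁻¹).toMonoidHom (MonoidHom.id _))) := by
  haveI : Nontrivial ι := Fintype.one_lt_card_iff_nontrivial.1 (by omega)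
  have hQ := nd_frm_quad h2 hM
  have hE := not_exc_of_two_ne_zero (Q := (frm M).toQuadraticMap) h2
  have h3' : 3 ≤ finrank F (ι → F) := by simpa
  let ρ : Gam (frm M).toQuadraticMap →* MulAut (ProjectiveSpecialLinearGroup ι F) :=
    MonoidHom.mk' (fun g => innDiag g.mat * fieldAut g.σ) fun g h => by
      rw [mat_mul, mul_σ, map_mul, map_mul, mul_assoc, mul_assoc, ← mul_assoc (fieldAut g.σ),
        fieldAut_mul_innDiag, mul_assoc]
  have hs : ∀ s, (scal (frm M).toQuadraticMap s).mat = GeneralLinearGroup.scalar ι s := fun s =>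
    mat_eq_of fun v => (scalar_mulVec s v).symm
  have hρ : ρ.ker = (scal _).range := Subgroup.ext fun g => ⟨fun h => by
    obtain ⟨h1, h4⟩ := innDiag_mul_fieldAut_eq_one h
    obtain ⟨s, e⟩ := Symp.scalars_eq_center.ge h1
    exact ⟨s, ext_T hQ fun v => by rw [T_eq_mat' h4, ← e]; exact (scalar_mulVec s v).symm⟩, by
      rintro ⟨s, rfl⟩
      change innDiag (scal _ s).mat * fieldAut 1 = 1
      rw [hs, innDiag_scalar, map_one, mul_one]⟩
  have key : ∀ g τ, innDiag g * fieldAut τ ∈ centralizer {grAut M} →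
      ∃ γ, ρ γ = innDiag g * fieldAut τ := fun g τ h => by
    obtain ⟨c, hc⟩ := semilinear_conj_grAut h
    exact ⟨ofPair g τ c fun v => hc v v, congrArg (innDiag · * _) (mat_ofPair ..)⟩
  refine core_iff_of_hom hZ hA (omHom ρ) (ker_omHom hQ hE h3' hρ)
    (center_commutator_ne_top hQ hE h3') (fun l => ?_) (pPrimeCore_two_pcom hQ h2 h3')
    (fun y hy l => ?_) (fun n hn hc h => ?_) a P
  · obtain ⟨o, ho⟩ := (isoEquiv _).surjective l.1
    have : omHom ρ l = innDiag o.1 := by
      change innDiag (ofO _ l.1).mat * fieldAut 1 = _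
      rw [← ho, mat_ofO, map_one, mul_one]
    rw [this]
    exact ⟨innDiag_mem_inn_of_det (by rw [← det_isoEquiv, ho]; exact commutator_le_ker_det l.2),
      (comap_centralizer_grAut M).ge ((similarityGroup_eq_quad h2 hM).ge
        ⟨1, fun v => (o.2 v v).trans (one_mul _).symm⟩)⟩
  · obtain ⟨g, rfl⟩ := inn_le_range_innDiag hy.1
    obtain ⟨γ, hγ⟩ := key g 1 (by simpa using hy.2)
    rw [map_one, mul_one] at hγ
    exact ⟨_, hγ ▸ (conj_omHom γ l).symm⟩
  obtain ⟨g, τ, rfl⟩ := exists_of_odd h3 hc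
  obtain ⟨γ, hγ⟩ := key g τ hn
  exact hγ ▸ eq_one_of_commute_omHom hQ hE h3' hρ (hγ ▸ h)

omit hZ hA in
theorem core_iff_graphField_PSL {n : ℕ} (hZ : center (ProjectiveSpecialLinearGroup (Fin n) F) = ⊥)
    {A : Subgroup (MulAut (ProjectiveSpecialLinearGroup (Fin n) F))} (hA : ∀ k, MulAut.conj k ∈ A)
    (h2 : (2 : F) ≠ 0) (h3 : 3 ≤ n) {σ : F ≃+* F} (h1 : σ ≠ 1) (hσ : σ ^ 2 = 1) (a) (P : Prop) :
    pPrimeCore 2 ↥(A ⊓ centralizer {a * (fieldAut σ * graphAut) * a⁻¹}) ≠ ⊥ ↔ P ∧ (2 : ℕ).Coprime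
      (Nat.card (MonoidHom.eqLocus (a * (fieldAut σ * graphAut) * a⁻¹).toMonoidHom
        (MonoidHom.id _))) := by
  letI := Fintype.ofFinite F
  haveI : Nontrivial (Fin n) := Fin.nontrivial_iff_two_le.2 (by omega)
  obtain ⟨q, hq⟩ := Unitary.exists_isBar_of_invol (ringAut_ne_id h1) (ringAut_invol hσ)
  have hF : Fintype.card F = q ^ 2 := by rw [← hq.card, Nat.card_eq_fintype_card]
  have h32 : ¬ (n = 3 ∧ q = 2) := fun h => h2 (eq_zero_of_pow_eq_zero (n := 2) (by
    have := Nat.cast_card_eq_zero F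
    rwa [hF, h.2, Nat.cast_pow, Nat.cast_ofNat] at this))
  have tw := isTwist_fieldGraph (ι := Fin n) h1 hσ
  have hc : ∀ g, innDiag g ∈ centralizer {fieldAut σ * graphAut} ↔
      ∃ k : GU n F q, innDiag g = innDiag k.1 := fun g => by
    rw [tw.mem_centralizer_iff, fixSub_fieldGraphGL hq]
    exact ⟨fun ⟨u, k, hk, e⟩ => ⟨⟨k, hk⟩, by rw [e, map_mul, innDiag_scalar, one_mul]⟩,
      fun ⟨k, e⟩ => (innDiag_eq_iff.1 e.symm).imp fun u e => ⟨k, k.2, e⟩⟩
  let f : SU n F q →* _ := innDiag.comp (toGL.comp (SU n F q).subtype)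
  have hf : ∀ (k : GU n F q) τ l, innDiag k.1 * fieldAut τ * f l * (innDiag k.1 * fieldAut τ)⁻¹ =
      f (Unitary.diagSU k (Unitary.fieldSU τ l)) := fun k τ l => by
    rw [mul_assoc (innDiag _), MonoidHom.comp_apply, fieldAut_mul_innDiag, _root_.mul_inv_rev,
      ← mul_assoc, ← mul_assoc, mul_inv_cancel_right, ← map_inv, ← map_mul, ← map_mul]
    exact congrArg innDiag (Units.ext rfl)
  have hker : f.ker = center _ := Subgroup.ext fun l => by
    rw [MonoidHom.mem_ker, MonoidHom.comp_apply, ← MonoidHom.mem_ker, ker_innDiag,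
      MonoidHom.comp_apply, toGL_mem_center_iff, Unitary.mem_center_SU hF (by omega),
      Matrix.SpecialLinearGroup.mem_center_iff]
    refine exists_congr fun c => ⟨fun h => h.2.symm.trans (smul_one_eq_diagonal c).symm, fun h => ?_⟩
    exact ⟨by simpa using (congrArg Matrix.det h).symm.trans l.1.2,
      (h.trans (smul_one_eq_diagonal c)).symm⟩
  haveI := Unitary.isSimpleGroup_PSU hF h3 h32
  obtain ⟨i, j, hij⟩ := exists_pair_ne (Fin n)
  refine core_iff_of_hom hZ hA f hker (QuotientGroup.nontrivial_iff.1 inferInstance)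
    (fun l => ⟨innDiag_mem_inn_of_det (Units.ext l.1.2), (hc _).2 ⟨⟨_, l.2⟩, rfl⟩⟩)
    (pPrimeCore_eq_bot_of_simple (dvd_card_quotient_center (Unitary.commutator_SU hF h3 h32)
      (two_dvd_card_of_diag h2 hij (hq.mem_SU_iff.2 ?_)))) (fun y hy l => ?_)
    (fun y hy hy' h => ?_) a P
  · rw [SpecialLinearGroup.diag2n_coe, diagonal_map (map_zero _), diagonal_transpose,
      diagonal_mul_diagonal, ← diagonal_one]
    exact congrArg diagonal (funext fun k => by split_ifs <;> simp)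
  · obtain ⟨g, rfl⟩ := inn_le_range_innDiag hy.1
    obtain ⟨k, hk⟩ := (hc g).1 hy.2
    have := hf k 1 l
    rw [map_one, mul_one, ← hk] at this
    exact ⟨_, this.symm⟩
  obtain ⟨g, τ, rfl⟩ := exists_of_odd (by simpa) hy'
  obtain ⟨k, hk⟩ := (hc g).1 ((mul_mem_cancel_right (mem_centralizer_singleton_iff.2 (Commute.mul_right
    (Commute.map (mul_comm' τ σ) _) (commute_fieldAut_graphAut τ)))).1 hy)
  rw [hk] at h ⊢
  obtain ⟨rfl, h4⟩ := Unitary.diagAut_mul_fieldAut_eq_one hF h3 (g := k) (τ := τ)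
    (MulEquiv.ext fun l => by
      obtain ⟨l, rfl⟩ := QuotientGroup.mk_surjective l
      rw [MulAut.mul_apply, Unitary.fieldAut_mk, Unitary.diagAut_mk, MulAut.one_apply,
        QuotientGroup.eq, ← hker, MonoidHom.mem_ker, map_mul, map_inv, ← hf, (h l).eq,
        mul_inv_cancel_right, inv_mul_cancel])
  obtain ⟨c, hc⟩ := (Unitary.mem_center_GU hF (by omega)).1 h4
  rw [map_one, mul_one]
  exact ker_innDiag.ge (mem_center_iff.2 fun y => Units.ext (by simp [hc]))

end Cfsg.Lib.Bal
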