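import Cfsg.Agent.Lib.Orth.Balance
import Cfsg.Agent.Lib.Linear.Descent

/-!
# Local balance for twisting automorphisms
-/

set_option autoImplicit false

namespace Cfsg.Lib.Bal

open Subgroup Cfsg.Lib.Linear Matrix

variable {G L T C : Type*} [Group G] [Group L] [Group T] [CommGroup C] {p r : ℕ}

theorem center_eq_bot_of_simple (h : IsSimpleGroup (G ⧸ center G)) : center (G ⧸ center G) = ⊥ :=
  (Normal.eq_bot_or_eq_top inferInstance).resolve_right fun e => by
    letI : CommGroup (G ⧸ center G) :=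
      { toGroup := inferInstance, mul_comm := fun a b => mem_center_iff.1 (e.ge (mem_top b)) a }
    have := commutative_of_cyclic_center_quotient (QuotientGroup.mk' (center G)) (by simp)
    obtain ⟨a, ha⟩ := exists_ne (1 : G ⧸ center G)
    obtain ⟨a, rfl⟩ := QuotientGroup.mk_surjective a
    exact ha ((QuotientGroup.eq_one_iff _).2 (mem_center_iff.2 fun b => this b a))

theorem apply_eq_of_commute (h : center T = ⊥) {n : MulAut T} {t : T}
    (hc : Commute n (MulAut.conj t)) : n t = t := (inv_mul_eq_one.1 (h.le (mem_center_iff.2 fun y => by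
  have := MulEquiv.congr_fun hc (n⁻¹ y)
  simp only [MulAut.mul_apply, MulAut.conj_apply, map_mul, map_inv, MulAut.apply_inv_self] at this
  calc y * (t⁻¹ * n t) = t⁻¹ * (t * y * t⁻¹) * n t := by group
    _ = t⁻¹ * n t * y := by rw [← this]; group))).symm

theorem pow_orderOf_eq_one_of_fix {F : Type*} [Field F] [Finite F] {σ τ : F ≃+* F}
    (h : ∀ x, σ x = x → τ x = x) : τ ^ orderOf σ = 1 := orderOf_dvd_iff_pow_eq_one.1
  (Nat.card_zpowers σ ▸ orderOf_dvd_natCard _ (Orth.mem_zpowers_of_fix h))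

theorem map_eq_one_of_gen (hG : closure {g : L | g ^ r = 1} = ⊤) (f : L →* C) (l : L) :
    f l ^ r = 1 :=
  (hG.ge.trans ((closure_le ((powMonoidHom r).comp f).ker).2 fun g (hg : g ^ r = 1) => by
    simp [← map_pow, hg])) (mem_top l)

theorem dvd_card_quotient_center' [Finite L] [hp : Fact p.Prime] (hpr : p.Coprime r)
    (hG : closure {g : L | g ^ r = 1} = ⊤) (hd : p ∣ Nat.card L) :
    p ∣ Nat.card (L ⧸ center L) := by
  rw [card_eq_card_quotient_mul_card_subgroup (center L)] at hd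
  refine (hp.out.dvd_mul.1 hd).elim id fun hd => ?_
  obtain ⟨z, hz⟩ := exists_prime_orderOf_dvd_card' p hd
  letI : CommGroup (center L) := { toGroup := inferInstance, mul_comm := mul_comm' }
  have := congrArg Subtype.val (map_eq_one_of_gen hG (MonoidHom.transferCenterPow L) z.1)
  refine hpr.dvd_of_dvd_mul_right ?_
  rw [← hz, orderOf_dvd_iff_pow_eq_one, pow_mul]
  exact Subtype.ext this

/-- The `p'`-core of the central quotient of a group with an Iwasawa structure. -/
theorem pPrimeCore_quotient_center [Finite L] [hp : Fact p.Prime] (hpr : p.Coprime r)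
    (hG : closure {g : L | g ^ r = 1} = ⊤)
    (hN : ∀ N : Subgroup L, N.Normal → N ≤ center L ∨ _root_.commutator L ≤ N)
    (hd : p ∣ Nat.card L) : pPrimeCore p (L ⧸ center L) = ⊥ :=
  Core.pPrimeCore_eq_bot_iff.2 fun N hN' hc => by
    rcases hN (N.comap (QuotientGroup.mk' _)) inferInstance with h | h
    · exact (eq_bot_iff_forall _).2 fun n hn => by
        obtain ⟨n, rfl⟩ := QuotientGroup.mk_surjective n
        exact (QuotientGroup.eq_one_iff n).2 (h hn)
    have h1 := dvd_card_quotient_center' hpr hG hd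
    rw [card_eq_card_quotient_mul_card_subgroup N] at h1
    obtain ⟨z, hz⟩ := exists_prime_orderOf_dvd_card' p (hc.symm.dvd_of_dvd_mul_right h1)
    obtain ⟨z, rfl⟩ := QuotientGroup.mk_surjective z
    obtain ⟨z, rfl⟩ := QuotientGroup.mk_surjective z
    refine absurd (Nat.eq_one_of_dvd_coprimes hpr dvd_rfl ?_) hp.out.one_lt.ne'
    rw [← hz, orderOf_dvd_iff_pow_eq_one, ← QuotientGroup.mk_pow, QuotientGroup.eq_one_iff,
      ← QuotientGroup.mk_pow]
    exact h (Abelianization.ker_of L ▸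
      (map_pow _ _ _).trans (map_eq_one_of_gen hG Abelianization.of z))

/-- The local balance criterion for a twisting automorphism `x` whose fixed points contain the
group `L` of the same type over a smaller field. -/
theorem core_ne_bot_iff_twist [Finite T] [Finite L] [hp : Fact p.Prime] (hZ : center T = ⊥)
    {A : Subgroup (MulAut T)} (hA : ∀ k, MulAut.conj k ∈ A) {ρ : G →* MulAut T} {x : MulAut T}
    {α : MulAut G} {s : C →* G} {β : MulAut C} (h : IsTwist ρ x α s β p)
    (hI : (MulAut.conj : T →* _).range ≤ ρ.range) (j : L →* G) (hj : ∀ l, α (j l) = j l)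
    (hjI : ∀ l, ρ (j l) ∈ (MulAut.conj : T →* _).range)
    (hn : ∀ k, α k = k → ∀ l, k * j l * k⁻¹ ∈ j.range) (hker : (ρ.comp j).ker = center L)
    (hc : Nat.card ↥(ρ.range ⊓ centralizer {x}) ∣ Nat.card L) (hpr : p.Coprime r)
    (hG : closure {g : L | g ^ r = 1} = ⊤)
    (hN : ∀ N : Subgroup L, N.Normal → N ≤ center L ∨ _root_.commutator L ≤ N)
    (hne : center L ≠ ⊤) (h2 : ∀ n, (∀ l, Commute n (ρ (j l))) → n ^ p = 1) (a : MulAut T)
    {P : Prop} (hP : P) : pPrimeCore p ↥(A ⊓ centralizer {a * x * a⁻¹}) ≠ ⊥ ↔ P ∧ p.Coprime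
      (Nat.card (MonoidHom.eqLocus (a * x * a⁻¹).toMonoidHom (MonoidHom.id T))) := by
  have hf : (ρ.comp j).range ≤ (MulAut.conj : T →* _).range ⊓ centralizer {x} := by
    rintro _ ⟨l, rfl⟩
    exact ⟨hjI l, h.mem_centralizer_iff.2 ⟨1, j l, hj l, by simp⟩⟩
  refine core_ne_bot_iff_conj hZ hA a (fun e => hne ?_) (fun hd => ?_) fun _ => hP
  · rw [← hker, MonoidHom.ker_eq_top_iff, ← MonoidHom.range_eq_bot_iff]
    exact le_bot_iff.1 (hf.trans e.le)
  refine good_of_subgroup _ (pPrimeCore_range_eq_bot _ hker (pPrimeCore_quotient_center hpr hG hN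
    (hd.trans ((card_dvd_of_le (inf_le_inf_right _ hI)).trans hc)))) hf ?_ fun n _ hn hc => ?_
  · rintro y hy - _ ⟨l, rfl⟩
    obtain ⟨k, hk, rfl⟩ := h.range_inf_centralizer.le ⟨hI hy.1, hy.2⟩
    obtain ⟨l', hl'⟩ := hn k hk l
    exact ⟨l', by simp [hl']⟩
  · exact orderOf_eq_one_iff.1 (Nat.eq_one_of_dvd_coprimes hn dvd_rfl
      (orderOf_dvd_of_pow_eq_one (h2 n fun l => hc _ ⟨l, rfl⟩)))

/-- A semilinear map fixing all rational points is a scalar times a field automorphism fixing the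
smaller field. -/
theorem scalar_of_fix_rat {ι F K : Type*} [Fintype ι] [DecidableEq ι] [Nontrivial ι] [Field F]
    [Field K] {φ : K →+* F} {σ : F →+* F} {g : GL ι F}
    (h1 : ∀ v : ι → K, v ≠ 0 → ∃ c : F, g.1 *ᵥ (σ ∘ φ ∘ v) = c • (φ ∘ v)) :
    (∃ u, g = GeneralLinearGroup.scalar ι u) ∧ ∀ a, σ (φ a) = φ a := by
  have hs : ∀ (i j : ι) (a : K), σ ∘ φ ∘ (Pi.single i 1 + Pi.single j a : ι → K) =
      Pi.single i 1 + Pi.single j (σ (φ a)) := fun i j a => by
    ext k; simp [Pi.single_apply, apply_ite φ, apply_ite σ]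
  have hd : ∀ i j, i ≠ j → g.1 i j = 0 := fun i j hij => by
    obtain ⟨c, hc⟩ := h1 (Pi.single j 1 + Pi.single j 0) (by simp)
    rw [hs] at hc
    simpa [hij] using congrFun hc i
  have hdd : ∀ i j (a : K), i ≠ j → g.1 j j * σ (φ a) = g.1 i i * φ a := fun i j a hij => by
    obtain ⟨c, hc⟩ := h1 (Pi.single i 1 + Pi.single j a) (fun h0 => by
      simpa [hij] using congrFun h0 i)
    rw [hs] at hc
    have e1 := congrFun hc i
    have e2 := congrFun hc j
    simp [mulVec_add, hij, hij.symm, hd i j hij, hd j i hij.symm] at e1 e2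
    rw [e1, ← e2, mul_comm]
  obtain ⟨i, j, hij⟩ := exists_pair_ne ι
  have hc : ∀ j, g.1 j j = g.1 i i := fun j => by
    by_cases hj : i = j
    · rw [hj]
    · simpa using hdd i j 1 hj
  have hg : g.1 = scalar _ (g.1 i i) := by
    ext k l
    by_cases hkl : k = l
    · subst hkl; simp [hc]
    · simp [hkl, hd k l hkl]
  have h0 : g.1 i i ≠ 0 := fun h0 => g.ne_zero (by rw [hg, h0, map_zero])
  exact ⟨⟨Units.mk0 _ h0, Units.ext hg⟩, fun a => mul_left_cancel₀ h0 (hc j ▸ hdd i j a hij)⟩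

end Cfsg.Lib.Bal
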