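import Cfsg.Agent.Lib.Bal.Twist
import Cfsg.Agent.Lib.Orth.Klein

/-!
# Local balance: automorphisms whose centralizer has order divisible by `p`
-/

set_option autoImplicit false

namespace Cfsg.Lib.Bal

open Subgroup Cfsg.Lib.Linear Matrix Module Cfsg.Lib.Orth Cfsg.Lib.Orth.Gam
open scoped MatrixGroups

section Abstract

variable {L T : Type*} [Group L] [Group T] {p : ℕ} [hp : Fact p.Prime] [Finite T]
  (hZ : center T = ⊥) {A : Subgroup (MulAut T)} (hA : ∀ k, MulAut.conj k ∈ A) {x : MulAut T}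
include hZ hA

theorem core_iff_of_good (hd : p ∣ Nat.card ↥((MulAut.conj : T →* _).range ⊓ centralizer {x}))
    (hg : Good p (MulAut.conj : T →* _).range x) (a : MulAut T) (P : Prop) :
    pPrimeCore p ↥(A ⊓ centralizer {a * x * a⁻¹}) ≠ ⊥ ↔ P ∧ p.Coprime
      (Nat.card (MonoidHom.eqLocus (a * x * a⁻¹).toMonoidHom (MonoidHom.id T))) :=
  core_ne_bot_iff_conj hZ hA a (fun e => hp.out.one_lt.ne' (by simpa [e] using hd)) (fun _ => hg)
    fun h => absurd hd h

omit hZ hA [Finite T] in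
theorem dvd_card_of_pPrimeCore [Finite L] [Nontrivial L] (h : pPrimeCore p L = ⊥) :
    p ∣ Nat.card L := by_contra fun e =>
  bot_ne_top (h.symm.trans (Core.pPrimeCore_eq_top_iff.2 (Core.coprime_iff_not_dvd.2 e)))

theorem core_iff_of_hom (f : L →* MulAut T) (hker : f.ker = center L) (hne : center L ≠ ⊤)
    (hf : ∀ l, f l ∈ (MulAut.conj : T →* _).range ⊓ centralizer {x})
    (hL : pPrimeCore p (L ⧸ center L) = ⊥)
    (h1 : ∀ y ∈ (MulAut.conj : T →* _).range ⊓ centralizer {x}, ∀ l, y * f l * y⁻¹ ∈ f.range)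
    (h2 : ∀ n ∈ centralizer {x}, (orderOf n).Coprime p → (∀ l, Commute n (f l)) → n = 1)
    (a : MulAut T) (P : Prop) : pPrimeCore p ↥(A ⊓ centralizer {a * x * a⁻¹}) ≠ ⊥ ↔ P ∧ p.Coprime
      (Nat.card (MonoidHom.eqLocus (a * x * a⁻¹).toMonoidHom (MonoidHom.id T))) := by
  have hf' : f.range ≤ _ := fun _ ⟨l, e⟩ => e ▸ hf l
  have h3 := pPrimeCore_range_eq_bot f hker hL
  haveI := (nontrivial_iff_ne_bot f.range).2 fun e => hne (by
    rwa [← hker, MonoidHom.ker_eq_top_iff, ← MonoidHom.range_eq_bot_iff])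
  exact core_iff_of_good hZ hA ((dvd_card_of_pPrimeCore h3).trans (card_dvd_of_le hf'))
    (good_of_subgroup _ h3 hf' (by rintro y hy - _ ⟨l, rfl⟩; exact h1 y hy l)
      fun n hn hc h => h2 n hn hc fun l => h _ ⟨l, rfl⟩) a P

end Abstract

section Lin

variable {ι : Type*} [Fintype ι] [DecidableEq ι] {F : Type*} [Field F] {r p : ℕ} [Fact r.Prime]
  [CharP F r]

theorem closure_pow_SL : closure {g : SpecialLinearGroup ι F | g ^ r = 1} = ⊤ :=
  eq_top_of_transvection_mem _ fun _ _ h c =>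
    subset_closure (pow_eq_one_of_isTvNil (isTvNil_transvection h c))

theorem two_dvd_card_of_diag (h2 : (2 : F) ≠ 0) {i j : ι} (h : i ≠ j)
    {H : Subgroup (SpecialLinearGroup ι F)}
    (hH : SpecialLinearGroup.diag2n h (-1 : F) (by simp) ∈ H) : 2 ∣ Nat.card H :=
  (orderOf_eq_prime (p := 2) (x := SpecialLinearGroup.diag2n h (-1 : F) (by simp))
    (Matrix.SpecialLinearGroup.ext _ _ fun k l => by
      rw [Matrix.SpecialLinearGroup.coe_pow, SpecialLinearGroup.diag2n_coe, diagonal_pow]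
      simp [apply_ite (· ^ 2), diagonal_apply, one_apply]) fun e => h2 (by
      have : (-1 : F) = 1 := by
        simpa [SpecialLinearGroup.diag2n_coe] using
          (Matrix.SpecialLinearGroup.ext_iff _ _).1 e i i
      linear_combination -this)) ▸ orderOf_dvd_natCard _ hH

theorem pPrimeCore_two_PSL [Finite F] [Nontrivial ι] (h2 : (2 : F) ≠ 0) :
    pPrimeCore 2 (ProjectiveSpecialLinearGroup ι F) = ⊥ := by
  obtain ⟨r, hr⟩ := CharP.exists F
  haveI : Fact r.Prime := ⟨CharP.char_is_prime F r⟩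
  obtain ⟨i, j, h⟩ := exists_pair_ne ι
  exact pPrimeCore_quotient_center ((Nat.coprime_primes Nat.prime_two Fact.out).2 fun e =>
    h2 (by subst e; exact CharP.cast_eq_zero F 2)) closure_pow_SL
    (fun N _ => normal_SL_le_center_or N) (card_top (G := SpecialLinearGroup ι F) ▸
      two_dvd_card_of_diag h2 h (mem_top _))

theorem eq_of_innDiag_eq {s t : GL ι F} (hs : s ^ r = 1) (ht : t ^ r = 1)
    (h : innDiag s = innDiag t) : s = t := by
  obtain ⟨u, rfl⟩ := innDiag_eq_iff.1 h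
  rw [Commute.mul_pow (GeneralLinearGroup.scalar_commute u s), hs, mul_one, ← map_pow] at ht
  rcases isEmpty_or_nonempty ι with hι | ⟨⟨i⟩⟩
  · exact Subsingleton.elim _ _
  have : u = 1 := Units.ext (eq_one_of_pow_char_eq_one (p := r) (by
    simpa [-map_pow] using congrArg (fun g : GL ι F => g.1 i i) ht))
  rw [this, map_one, one_mul]

theorem eq_of_commute {g t : GL ι F} {τ : F ≃+* F} (ht : t ^ r = 1)
    (h : Commute (innDiag g * fieldAut τ) (innDiag t)) : g * fieldGL τ t = t * g := by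
  rw [← mul_inv_eq_iff_eq_mul]
  refine eq_of_innDiag_eq (by rw [conj_pow, ← map_pow, ht]; simp) ht ?_
  have := h.eq
  rw [mul_assoc, fieldAut_mul_innDiag, ← mul_assoc, ← mul_assoc, mul_left_inj] at this
  rw [map_mul, map_mul, this, map_inv, mul_inv_cancel_right]

theorem eq_of_commute_graph {g t : GL ι F} {τ : F ≃+* F} (ht : t ^ r = 1)
    (h : Commute (innDiag g * fieldAut τ * graphAut) (innDiag t)) :
    g * fieldGL τ (graphGL t) = t * g := by
  rw [← mul_inv_eq_iff_eq_mul]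
  refine eq_of_innDiag_eq (by rw [conj_pow, ← map_pow, ← map_pow, ht]; simp) ht ?_
  have := h.eq
  rw [mul_assoc, graphAut_mul_innDiag, ← mul_assoc, ← mul_assoc, mul_left_inj, mul_assoc,
    fieldAut_mul_innDiag, ← mul_assoc, ← mul_assoc, mul_left_inj] at this
  rw [map_mul, map_mul, this, map_inv, mul_inv_cancel_right]

omit [Fact r.Prime] [CharP F r] in
/-- An automorphism of odd order is semilinear. -/
theorem exists_of_odd [Finite F] (h3 : 3 ≤ Fintype.card ι)
    {n : MulAut (ProjectiveSpecialLinearGroup ι F)} (hn : (orderOf n).Coprime 2) :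
    ∃ g τ, n = innDiag g * fieldAut τ := by
  obtain ⟨g, τ, h | h⟩ := aut_PSL_decomp_of_three_le h3 n
  · exact ⟨g, τ, h⟩
  obtain ⟨θ, h1, h2, h4, -⟩ := exists_autType (F := F) h3
  have := orderOf_map_dvd ((MonoidHom.snd _ _).comp θ) n
  rw [h, map_mul, map_mul, MonoidHom.comp_apply, MonoidHom.comp_apply, MonoidHom.comp_apply,
    h1.ge ⟨g, rfl⟩, h2, h4, ← h] at this
  exact absurd (Nat.eq_one_of_dvd_coprimes hn this (orderOf_dvd_of_pow_eq_one (by simp; decide)))
    (mt orderOf_eq_one_iff.1 (by simp))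

end Lin

section Om

variable {F V A : Type*} [Field F] [AddCommGroup V] [Module F V] {Q : QuadraticForm F V} [Group A]
  {ρ : Gam Q →* A}

/-- The restriction of a representation of the semisimilarities to `Ω`. -/
def omHom (ρ : Gam Q →* A) : _root_.commutator (O Q) →* A :=
  ρ.comp ((ofO Q).comp (Subgroup.subtype _))

theorem conj_omHom (g : Gam Q) (o : _root_.commutator (O Q)) :
    ρ g * omHom ρ o * (ρ g)⁻¹ = omHom ρ ⟨cj Q g o, g.cj_mem_commutator.2 o.2⟩ := by
  simp [omHom, ofO_cj]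

variable [Finite F] [FiniteDimensional F V] (hQ : ND Q)
include hQ

theorem ker_omHom (hE : ¬ Exc Q) (h3 : 3 ≤ finrank F V) (hρ : ρ.ker = (scal Q).range) :
    (omHom ρ).ker = center _ := Subgroup.ext fun o => by
  rw [mem_center_commutator_iff hQ hE h3]
  refine (hρ ▸ Iff.rfl : _ ↔ ofO Q o ∈ (scal Q).range).trans ⟨fun ⟨s, hs⟩ => ?_, ?_⟩
  · rcases scal_mul_ofO_inj (s := 1) (t := s) (o' := 1) (by simpa using hs.symm) with h | h
    exacts [.inl h.2, .inr (by simpa using h.2)]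
  · rintro (h | h) <;> simp only [h]
    exacts [⟨1, by simp⟩, ⟨-1, ofO_neg.symm⟩]

theorem eq_one_of_commute_omHom (hE : ¬ Exc Q) (h3 : 3 ≤ finrank F V)
    (hρ : ρ.ker = (scal Q).range) {g : Gam Q} (h : ∀ o, Commute (ρ g) (omHom ρ o)) : ρ g = 1 := by
  rw [← MonoidHom.mem_ker, hρ, ← ker_rho hQ hE h3]
  refine MulEquiv.ext fun o => ?_
  obtain ⟨o, rfl⟩ := QuotientGroup.mk_surjective o
  rw [rho_mk, MulAut.one_apply, QuotientGroup.eq, ← ker_omHom hQ hE h3 hρ, MonoidHom.mem_ker,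
    map_mul, map_inv, ← conj_omHom, (h o).eq, mul_inv_cancel_right, inv_mul_cancel]

theorem pPrimeCore_two_pcom (h2 : (2 : F) ≠ 0) (h3 : 3 ≤ finrank F V) :
    pPrimeCore 2 (PCom (O Q)) = ⊥ := by
  have tr : ∀ {ι : Type} [Fintype ι] [DecidableEq ι] {Q' : QuadraticForm F (ι → F)},
      Nonempty (O Q ≃* O Q') → pPrimeCore 2 (POmega F ⇑Q') = ⊥ → pPrimeCore 2 (PCom (O Q)) = ⊥ :=
    fun ⟨e⟩ h => (Core.pPrimeCore_eq_bot_congr ((pcomCongr e).trans (pomegaEquiv _).symm)).2 h
  obtain h | h | h : finrank F V = 2 * 1 + 1 ∨ finrank F V = 2 * 2 ∨ 5 ≤ finrank F V := by omega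
  · obtain ⟨e⟩ := nonempty_pomega_three h2
    exact tr (nonempty_O_equiv_of_odd hQ (nd_qOdd h2 1) ⟨1, h⟩ (by simp [h]))
      ((Core.pPrimeCore_eq_bot_congr e).2 (pPrimeCore_two_PSL h2))
  · rcases wittIndex_eq_or hQ h with hw | hw
    · obtain ⟨e⟩ := nonempty_pomega_four_plus (F := F) (fun h => h2 (by
        letI := Fintype.ofFinite F
        rw [← Nat.cast_ofNat, ← h, Nat.card_eq_fintype_card, Nat.cast_card_eq_zero]))
      exact tr (nonempty_O_equiv (equivalent_qPlus hQ h hw.ge)) ((Core.pPrimeCore_eq_bot_congr e).2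
        (pPrimeCore_prod (pPrimeCore_two_PSL h2) (pPrimeCore_two_PSL h2)))
    · obtain ⟨b, hb⟩ := exists_aniso_one F
      letI := Fintype.ofFinite F
      haveI : Fact (∀ r : F, r ^ 2 ≠ -b + -1 * r) :=
        ⟨fun r h => aniso_iff.1 hb r (by linear_combination h)⟩
      haveI := finite_of_finiteDimensional F (QuadraticAlgebra F (-b) (-1))
      letI := Fintype.ofFinite (QuadraticAlgebra F (-b) (-1))
      obtain ⟨e⟩ := nonempty_pomega_four_minus (F := QuadraticAlgebra F (-b) (-1)) rfl (by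
        rw [Module.card_eq_pow_finrank (K := F), QuadraticAlgebra.finrank_eq_two]) hb
      exact tr (nonempty_O_equiv (equivalent_qMinus hQ (m := 1) h (by omega) hb))
        ((Core.pPrimeCore_eq_bot_congr e).2 (pPrimeCore_two_PSL fun h => h2
          ((algebraMap F (QuadraticAlgebra F (-b) (-1))).injective (by rw [map_ofNat, h, map_zero]))))
  · haveI := isSimpleGroup_pcom hQ h
    exact pPrimeCore_eq_bot_of_simple (two_dvd_card_pcom hQ h2 h)

end Om

end Cfsg.Lib.Bal
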